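import Groth.Agent.WildQuotLib.FrobPurity
import Mathlib

/-! Differentials of a hypersurface in a power series ring over a perfect field of characteristic `p`. -/

set_option autoImplicit false

universe u

open MvPowerSeries CategoryTheory Abelian

namespace Groth.Agent.HypKaehlerLib

variable {k : Type u} [Field k] (p : ℕ) [Fact p.Prime] [CharP k p] [PerfectRing k p] {n : ℕ}

/-- Every series is a combination of small monomials with `p`-th powers as coefficients. -/
theorem exists_decomp (f : MvPowerSeries (Fin n) k) :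
    ∃ g : (Fin n → Fin p) → MvPowerSeries (Fin n) k, f = ∑ ρ : Fin n → Fin p,
      monomial (Finsupp.equivFunOnFinite.symm fun i => (ρ i : ℕ)) (1 : k) * g ρ ^ p := by
  classical
  have hp := (Fact.out : p.Prime)
  let l : k →+ k := (frobeniusEquiv k p).symm.toAddMonoidHom
  let idx : (Fin n → Fin p) → (Fin n →₀ ℕ) := fun ρ => Finsupp.equivFunOnFinite.symm fun i => (ρ i : ℕ)
  refine ⟨fun ρ => WildQuotLib.frobPart p l (idx ρ) f, MvPowerSeries.ext fun e => ?_⟩
  have h1 : ∀ (a : MvPowerSeries (Fin n) k) d, coeff (p • d) (a ^ p) = (coeff d a) ^ p := fun a d => by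
    rw [← map_frobenius_expand p hp.ne_zero, coeff_map, coeff_expand_smul, frobenius_def]
  have h0 : ∀ (a : MvPowerSeries (Fin n) k) (x : Fin n →₀ ℕ) (i : Fin n), ¬ p ∣ x i → coeff x (a ^ p) = 0 :=
    fun a x i hi => by
      rw [← map_frobenius_expand p hp.ne_zero, coeff_map, coeff_expand_of_not_dvd p hp.ne_zero _ hi, map_zero]
  let ρ₀ : Fin n → Fin p := fun i => ⟨e i % p, Nat.mod_lt _ hp.pos⟩
  let d : Fin n →₀ ℕ := Finsupp.equivFunOnFinite.symm fun i => e i / p
  have he : p • d + idx ρ₀ = e := Finsupp.ext fun i => by simp [d, idx, ρ₀, Nat.div_add_mod]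
  rw [map_sum, Finset.sum_eq_single ρ₀]
  · rw [coeff_monomial_mul, if_pos (he ▸ le_add_self)]
    have : e - idx ρ₀ = p • d := by
      conv_lhs => rw [← he]
      exact add_tsub_cancel_right _ _
    rw [one_mul, this, h1, WildQuotLib.coeff_frobPart, he]
    exact (frobenius_apply_frobeniusEquiv_symm k p _).symm
  · intro ρ _ hρ
    rw [coeff_monomial_mul]
    split_ifs with h
    · obtain ⟨i, hi⟩ : ∃ i, ρ i ≠ ρ₀ i := Function.ne_iff.1 hρ
      rw [h0 _ _ i, mul_zero]
      intro hdvd
      refine hi (Fin.ext ?_)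
      have hle : (ρ i : ℕ) ≤ e i := by simpa [idx] using h i
      have h' : p ∣ e i - (ρ i : ℕ) := by simpa [idx] using hdvd
      show (ρ i : ℕ) = e i % p
      have := (Nat.modEq_iff_dvd' hle).2 h'
      rw [Nat.ModEq, Nat.mod_eq_of_lt (ρ i).isLt] at this
      exact this
    · rfl
  · simp

variable {M : Type u} [AddCommGroup M] [Module (MvPowerSeries (Fin n) k) M] [Module k M]
  [IsScalarTower k (MvPowerSeries (Fin n) k) M]

include p in
/-- A derivation is determined by its values on the variables. -/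
theorem derivation_apply (D : Derivation k (MvPowerSeries (Fin n) k) M) (f : MvPowerSeries (Fin n) k) :
    D f = ∑ i, pderiv k i f • D (X i) := by
  classical
  let E : Derivation k (MvPowerSeries (Fin n) k) M :=
    D - ∑ i, (LinearMap.toSpanSingleton (MvPowerSeries (Fin n) k) M (D (X i))).compDer (pderiv k i)
  have hE : ∀ g, E g = D g - ∑ i, pderiv k i g • D (X i) := fun g => by
    rw [Derivation.sub_apply]
    congr 1
    induction (Finset.univ : Finset (Fin n)) using Finset.induction_on with
    | empty => simp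
    | insert a s ha ih => rw [Finset.sum_insert ha, Finset.sum_insert ha, Derivation.add_apply, ih]; rfl
  have hX : ∀ i, E (X i) = 0 := fun i => by
    rw [hE, Finset.sum_eq_single i]
    · rw [pderiv_X_self, one_smul, sub_self]
    · intro j _ hj
      rw [pderiv_X_of_ne (Ne.symm hj), zero_smul]
    · simp
  have hpol : ∀ q : MvPolynomial (Fin n) k, E (q : MvPowerSeries (Fin n) k) = 0 := fun q => by
    induction q using MvPolynomial.induction_on with
    | C c => rw [MvPolynomial.coe_C]; exact Derivation.map_algebraMap E c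
    | add a b ha hb => rw [MvPolynomial.coe_add, map_add, ha, hb, add_zero]
    | mul_X a i ha => rw [MvPolynomial.coe_mul, MvPolynomial.coe_X, Derivation.leibniz, ha, hX, smul_zero, smul_zero,
        add_zero]
  have hpow : ∀ a : MvPowerSeries (Fin n) k, E (a ^ p) = 0 := fun a => by
    haveI : CharP (MvPowerSeries (Fin n) k) p :=
      charP_of_injective_algebraMap (algebraMap k (MvPowerSeries (Fin n) k)).injective p
    rw [Derivation.leibniz_pow, ← Nat.cast_smul_eq_nsmul (MvPowerSeries (Fin n) k), CharP.cast_eq_zero, zero_smul]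
  obtain ⟨g, hg⟩ := exists_decomp p f
  have h : E f = 0 := by
    rw [hg, map_sum]
    refine Finset.sum_eq_zero fun ρ _ => ?_
    rw [Derivation.leibniz, hpow, smul_zero, zero_add, ← MvPolynomial.coe_monomial, hpol, smul_zero]
  rwa [hE, sub_eq_zero] at h

variable (f : MvPowerSeries (Fin n) k)

set_option quotPrecheck false in
local notation "Bf" => MvPowerSeries (Fin n) k ⧸ Ideal.span {f}

/-- The Jacobian column. -/
noncomputable def grad : Bf →ₗ[Bf] (Fin n → Bf) :=
  LinearMap.toSpanSingleton Bf (Fin n → Bf) fun i => Ideal.Quotient.mk _ (pderiv k i f)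

theorem grad_apply (b : Bf) (i : Fin n) : grad f b i = b * Ideal.Quotient.mk _ (pderiv k i f) := rfl

include p in
/-- The presentation of the differentials of a hypersurface. -/
theorem nonempty_equiv :
    Nonempty (((Fin n → Bf) ⧸ LinearMap.range (grad f)) ≃ₗ[Bf] Ω[Bf⁄k]) := by
  classical
  let mk : MvPowerSeries (Fin n) k →+* Bf := Ideal.Quotient.mk _
  let φ : (Fin n → Bf) →ₗ[Bf] Ω[Bf⁄k] :=
    Fintype.linearCombination Bf fun i => KaehlerDifferential.D k Bf (mk (X i))
  have hD : ∀ g, KaehlerDifferential.D k Bf (mk g) = φ (fun i => mk (pderiv k i g)) := fun g => by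
    have h := derivation_apply p ((KaehlerDifferential.D k Bf).compAlgebraMap (MvPowerSeries (Fin n) k)) g
    simp only [Derivation.compAlgebraMap_apply] at h
    rw [Fintype.linearCombination_apply]
    exact h.trans (Finset.sum_congr rfl fun i _ => (algebraMap_smul Bf _ _).symm)
  have hφgrad : LinearMap.range (grad f) ≤ LinearMap.ker φ := by
    rintro _ ⟨b, rfl⟩
    show φ (b • fun i => mk (pderiv k i f)) = 0
    rw [map_smul, ← hD, Ideal.Quotient.eq_zero_iff_mem.2 (Ideal.mem_span_singleton_self f), map_zero, smul_zero]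
  let Q := (Fin n → Bf) ⧸ LinearMap.range (grad f)
  let d₀ : MvPowerSeries (Fin n) k →ₗ[k] Q :=
    { toFun := fun g => Submodule.Quotient.mk fun i => mk (pderiv k i g)
      map_add' := fun a b => by
        rw [← Submodule.Quotient.mk_add]
        exact congrArg _ (funext fun i => by simp)
      map_smul' := fun c a => by
        rw [RingHom.id_apply, ← Submodule.Quotient.mk_smul]
        exact congrArg _ (funext fun i => by
          rw [Derivation.map_smul]
          rfl) }
  have hleib : ∀ a b, d₀ (a * b) = mk a • d₀ b + mk b • d₀ a := fun a b => by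
    show Submodule.Quotient.mk _ = mk a • Submodule.Quotient.mk _ + mk b • Submodule.Quotient.mk _
    rw [← Submodule.Quotient.mk_smul, ← Submodule.Quotient.mk_smul, ← Submodule.Quotient.mk_add]
    exact congrArg _ (funext fun i => by simp [Derivation.leibniz, mk])
  have hker : (Ideal.span {f}).restrictScalars k ≤ LinearMap.ker d₀ := fun x hx => by
    obtain ⟨g, rfl⟩ := Ideal.mem_span_singleton'.1 hx
    show d₀ (g * f) = 0
    rw [hleib, show mk f = 0 from Ideal.Quotient.eq_zero_iff_mem.2 (Ideal.mem_span_singleton_self f)]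
    refine (congrArg₂ (· + ·) rfl (zero_smul Bf (d₀ g))).trans ?_
    rw [add_zero]
    show mk g • Submodule.Quotient.mk _ = 0
    rw [← Submodule.Quotient.mk_smul, Submodule.Quotient.mk_eq_zero]
    exact ⟨mk g, rfl⟩
  let l : Bf →ₗ[k] Q := ((Ideal.span {f}).restrictScalars k).liftQ d₀ hker ∘ₗ
    (Submodule.Quotient.restrictScalarsEquiv k (Ideal.span {f})).symm.toLinearMap
  have hl : ∀ g, l (mk g) = d₀ g := fun g => rfl
  let δ : Derivation k Bf Q := Derivation.mk' l fun x y => by
    obtain ⟨a, rfl⟩ := Ideal.Quotient.mk_surjective x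
    obtain ⟨b, rfl⟩ := Ideal.Quotient.mk_surjective y
    rw [← map_mul]
    exact hleib a b
  let ψ : Ω[Bf⁄k] →ₗ[Bf] Q := δ.liftKaehlerDifferential
  let φ' : Q →ₗ[Bf] Ω[Bf⁄k] := Submodule.liftQ _ φ hφgrad
  have hψ : ∀ g, ψ (KaehlerDifferential.D k Bf (mk g)) = d₀ g := fun g =>
    (δ.liftKaehlerDifferential_comp_D _).trans (hl g)
  refine ⟨LinearEquiv.ofLinearMap φ' ψ ?_ ?_⟩
  · apply Derivation.liftKaehlerDifferential_unique
    ext x
    obtain ⟨g, rfl⟩ := Ideal.Quotient.mk_surjective x
    show φ' (ψ (KaehlerDifferential.D k Bf (mk g))) = _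
    rw [hψ]
    exact (hD g).symm
  · refine Submodule.linearMap_qext _ (LinearMap.pi_ext' fun i => LinearMap.ext_ring ?_)
    show ψ (φ (Pi.single i 1)) = Submodule.Quotient.mk (Pi.single i 1)
    rw [Fintype.linearCombination_apply_single, one_smul, hψ]
    show Submodule.Quotient.mk (fun j => mk (pderiv k j (X i))) = _
    refine congrArg Submodule.Quotient.mk (funext fun j => ?_)
    by_cases h : j = i
    · subst h; rw [pderiv_X_self, map_one, Pi.single_eq_same]
    · rw [pderiv_X_of_ne (Ne.symm h), map_zero, Pi.single_eq_of_ne h]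

/-- An isolated singularity has injective Jacobian column. -/
theorem grad_injective {a b : Fin n} (hab : a ≠ b) (hf0 : f ≠ 0)
    (hiso : ∃ N : ℕ, IsLocalRing.maximalIdeal (MvPowerSeries (Fin n) k) ^ N ≤
      Ideal.span {f} ⊔ Ideal.span (Set.range fun i => pderiv k i f)) :
    Function.Injective (grad f) := by
  obtain ⟨N, hN⟩ := hiso
  refine (injective_iff_map_eq_zero _).2 fun x hx => ?_
  obtain ⟨g, rfl⟩ := Ideal.Quotient.mk_surjective x
  have hgi : ∀ i, f ∣ g * pderiv k i f := fun i => by
    rw [← Ideal.mem_span_singleton, ← Ideal.Quotient.eq_zero_iff_mem, map_mul]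
    exact congrFun hx i
  have hg : ∀ i : Fin n, f ∣ g * X i ^ N := fun i => by
    have hm : (X i : MvPowerSeries (Fin n) k) ∈ IsLocalRing.maximalIdeal (MvPowerSeries (Fin n) k) := fun hu =>
      not_isUnit_zero (M₀ := k) (by simpa using MvPowerSeries.isUnit_iff_constantCoeff.1 hu)
    obtain ⟨u, hu, v, hv, e⟩ := Submodule.mem_sup.1 (hN (Ideal.pow_mem_pow hm N))
    obtain ⟨c, hc⟩ := (Submodule.mem_span_range_iff_exists_fun _).1 hv
    rw [← e, mul_add, ← hc, Finset.mul_sum]
    refine dvd_add ((Ideal.mem_span_singleton.1 hu).mul_left g) (Finset.dvd_sum fun j _ => ?_)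
    rw [smul_eq_mul, mul_left_comm]
    exact (hgi j).mul_left _
  obtain ⟨s, hs⟩ := hg a
  obtain ⟨t, ht⟩ := hg b
  have h1 : s * X b ^ N = t * X a ^ N := mul_left_cancel₀ hf0 (by
    rw [← mul_assoc, ← hs, ← mul_assoc, ← ht, mul_right_comm])
  obtain ⟨s', rfl⟩ : X a ^ N ∣ s := by
    refine MvPowerSeries.X_pow_dvd_iff.2 fun m hm => ?_
    have h3 := congrArg (coeff (Finsupp.single b N + m)) h1
    rw [mul_comm s, X_pow_eq, coeff_add_monomial_mul, one_mul] at h3
    rw [h3]
    exact MvPowerSeries.X_pow_dvd_iff.1 (dvd_mul_left _ t) _ (by simpa [Finsupp.single_eq_of_ne hab] using hm)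
  rw [Ideal.Quotient.eq_zero_iff_mem, Ideal.mem_span_singleton]
  have hX : (X a : MvPowerSeries (Fin n) k) ≠ 0 := fun h0 => by
    simpa [coeff_X] using congrArg (coeff (Finsupp.single a 1)) h0
  refine ⟨s', mul_right_cancel₀ (pow_ne_zero N hX) ?_⟩
  rw [hs]
  ring

/-- `Ext` of a cokernel of a map from a rank-one free module into a projective module. -/
theorem ext_coker {B : Type u} [CommRing B] {P : Type u} [AddCommGroup P] [Module B P] [Module.Projective B P]
    {Q : Type u} [AddCommGroup Q] [Module B Q] (j : B →ₗ[B] P) (hj : Function.Injective j) (q : P →ₗ[B] Q)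
    (hq : Function.Surjective q) (hjq : Function.Exact j q) (I : Ideal B)
    (hI : ∀ b, b ∈ I ↔ ∃ φ : P →ₗ[B] B, φ (j 1) = b) :
    Subsingleton (Ext (ModuleCat.of B Q) (ModuleCat.of B B) 2) ∧
      Nonempty (Ext (ModuleCat.of B Q) (ModuleCat.of B B) 1 ≃ₗ[B] B ⧸ I) := by
  let S := ShortComplex.mk (ModuleCat.ofHom j) (ModuleCat.ofHom q) (ModuleCat.hom_ext hjq.linearMap_comp_eq_zero)
  have hS : S.ShortExact :=
    { exact := (ShortComplex.ShortExact.moduleCat_exact_iff_function_exact S).2 hjq
      mono_f := (ModuleCat.mono_iff_injective _).2 hj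
      epi_g := (ModuleCat.epi_iff_surjective _).2 hq }
  haveI : Projective (ModuleCat.of B P) := (IsProjective.iff_projective P).1 inferInstance
  haveI : Projective (ModuleCat.of B B) := ModuleCat.projective_of_free (Module.Basis.singleton PUnit.{u+1} B)
  refine ⟨⟨fun x y => ?_⟩, ?_⟩
  · have hz : ∀ z : Ext (ModuleCat.of B Q) (ModuleCat.of B B) 2, z = 0 := fun z => by
      obtain ⟨w, hw⟩ := Ext.contravariant_sequence_exact₃ hS (ModuleCat.of B B) z
        (Ext.eq_zero_of_projective _) (show 1 + 1 = 2 from rfl)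
      rw [← hw, Ext.eq_zero_of_projective w, Ext.comp_zero]
    rw [hz x, hz y]
  · let θ : B →ₗ[B] Ext (ModuleCat.of B Q) (ModuleCat.of B B) 1 :=
      LinearMap.toSpanSingleton B _ hS.extClass
    have hθ : ∀ b : B, θ b = hS.extClass.comp (Ext.mk₀ (b • 𝟙 (ModuleCat.of B B))) (show 1 + 0 = 1 from rfl) :=
      fun b => by rw [Ext.mk₀_smul, Ext.comp_smul, Ext.comp_mk₀_id]; rfl
    have hend : ∀ e : ModuleCat.of B B ⟶ ModuleCat.of B B, e = (e.hom 1) • 𝟙 _ := fun e =>
      ModuleCat.hom_ext (LinearMap.ext_ring (mul_one _).symm)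
    have hsurj : Function.Surjective θ := fun z => by
      obtain ⟨w, hw⟩ := Ext.contravariant_sequence_exact₃ hS (ModuleCat.of B B) z
        (Ext.eq_zero_of_projective _) (show 1 + 0 = 1 from rfl)
      obtain ⟨e, rfl⟩ := (Ext.mk₀_bijective _ _).2 w
      exact ⟨e.hom 1, by rw [hθ, ← hend, hw]⟩
    have hker : LinearMap.ker θ = I := by
      ext b
      rw [LinearMap.mem_ker, hθ, hI]
      constructor
      · intro hb
        obtain ⟨x, hx⟩ := Ext.contravariant_sequence_exact₁ hS (ModuleCat.of B B) _ (show 1 + 0 = 1 from rfl) hb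
        obtain ⟨e, rfl⟩ := (Ext.mk₀_bijective _ _).2 x
        rw [Ext.mk₀_comp_mk₀] at hx
        have h1 := LinearMap.congr_fun (congrArg ModuleCat.Hom.hom ((Ext.mk₀_bijective _ _).1 hx)) (1 : B)
        exact ⟨e.hom, h1.trans (mul_one b)⟩
      · rintro ⟨φ, rfl⟩
        have h1 : (φ (j 1)) • 𝟙 (ModuleCat.of B B) = S.f ≫ ModuleCat.ofHom φ :=
          ModuleCat.hom_ext (LinearMap.ext_ring (mul_one _))
        rw [h1, ← Ext.mk₀_comp_mk₀, ← Ext.comp_assoc _ _ _ (show 1 + 0 = 1 from rfl) (show 0 + 0 = 0 from rfl)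
          (by rfl), hS.extClass_comp, Ext.zero_comp]
    exact ⟨((Submodule.quotEquivOfEq _ _ hker.symm).trans (θ.quotKerEquivOfSurjective hsurj)).symm⟩

end Groth.Agent.HypKaehlerLib
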